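import Cfsg.Agent.GW.DG
import Cfsg.Agent.H25.AbInv
import Cfsg.Agent.S0111
import Cfsg.Agent.S4593
import Cfsg.Agent.S3224

/-!
# Groups with a self-centralizing generalized dihedral subgroup
-/

set_option autoImplicit false
set_option linter.style.haveILetI false
set_option linter.unusedSectionVars false

namespace Cfsg.Agent.GW

open Subgroup Cfsg.Agent.H10
open Cfsg.Agent.H11 (cj IsSylIn MC hh qq mem_cent1 mul_self_of_orderOf_two)
open scoped MatrixGroups commutatorElement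

universe u

variable {G : Type u} [Group G] [Finite G]

/-- `H` is generalized dihedral over `A` and centralizer of each involution of `A` -/
structure DH (H A : Subgroup G) (x a₀ : G) : Prop where
  le : A ≤ H
  xH : x ∈ H
  xA : x ∉ A
  sq : ∀ h ∈ H, h ∉ A → h * h = 1
  a0 : a₀ ∈ H
  a1 : a₀ * a₀ ≠ 1
  cent : ∀ j ∈ H, orderOf j = 2 → (∀ h ∈ H, h * j = j * h) → centralizer {j} = H

namespace DH

variable {H A T : Subgroup G} {x a₀ a b y j g : G} (h : DH H A x a₀)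
include h

theorem mem (hy : y ∈ H) (h1 : y * y ≠ 1) : y ∈ A := by_contra fun h2 => h1 (h.sq y hy h2)

theorem inv (hy : y ∈ H) (h1 : y ∉ A) (ha : a ∈ A) : y * a * y⁻¹ = a⁻¹ := by
  have h2 := h.sq _ (mul_mem hy (h.le ha)) fun e => h1 (by simpa using mul_mem e (inv_mem ha))
  rw [inv_eq_of_mul_eq_one_right (h.sq y hy h1), eq_inv_iff_mul_eq_one, ← h2]; group

theorem comm (ha : a ∈ A) (hb : b ∈ A) : a * b = b * a := by
  have h1 := h.inv h.xH h.xA (mul_mem ha hb)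
  rw [show x * (a * b) * x⁻¹ = x * a * x⁻¹ * (x * b * x⁻¹) by group, h.inv h.xH h.xA ha,
    h.inv h.xH h.xA hb, ← mul_inv_rev, inv_inj] at h1
  exact h1.symm

theorem not_comm (hy : y ∈ H) (h1 : y ∉ A) : y * a₀ ≠ a₀ * y := fun e => by
  have := h.inv hy h1 (h.mem h.a0 h.a1)
  rw [e, mul_inv_cancel_right] at this
  exact h.a1 (by nth_rw 1 [this]; simp)

theorem mul_mem (hy : y ∈ H) (h1 : y ∉ A) (hb : b ∈ H) (h2 : b ∉ A) : y * b ∈ A :=
  by_contra fun h3 => h.not_comm (H.mul_mem hy hb) h3 (by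
    have h4 := h.mem h.a0 h.a1
    rw [← mul_inv_eq_iff_eq_mul, show y * b * a₀ * (y * b)⁻¹ = y * (b * a₀ * b⁻¹) * y⁻¹ by group,
      h.inv hb h2 h4, h.inv hy h1 (inv_mem h4), inv_inv])

theorem conj_mem (hy : y ∈ H) (ha : a ∈ A) : y * a * y⁻¹ ∈ A := by
  by_cases h1 : y ∈ A
  · exact A.mul_mem (A.mul_mem h1 ha) (inv_mem h1)
  · rw [h.inv hy h1 ha]; exact inv_mem ha

theorem central (hj : j ∈ A) (h2 : j * j = 1) (hy : y ∈ H) : y * j = j * y := by
  by_cases h1 : y ∈ A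
  · exact h.comm h1 hj
  · rw [← mul_inv_eq_iff_eq_mul, h.inv hy h1 hj, inv_eq_of_mul_eq_one_right h2]

theorem cent_eq (hj : j ∈ A) (h2 : orderOf j = 2) : centralizer {j} = H :=
  h.cent j (h.le hj) h2 fun _ hy => h.central hj (mul_self_of_orderOf_two h2) hy

theorem mem_H (hj : j ∈ A) (h2 : orderOf j = 2) (e : y * j = j * y) : y ∈ H :=
  h.cent_eq hj h2 ▸ mem_cent1.2 e

theorem relIndex (hT : T ≤ H) (h1 : ¬ T ≤ A) : A.relIndex T = 2 := by
  obtain ⟨y, hy, h2⟩ := SetLike.not_le_iff_exists.1 h1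
  refine index_eq_two_iff'.2 ⟨⟨y, hy⟩, fun b => ?_⟩
  simp only [mem_subgroupOf, coe_mul]
  by_cases h3 : (b : G) ∈ A
  · exact Or.inr ⟨h3, fun e => h2 (by simpa using A.mul_mem e (inv_mem h3))⟩
  · exact Or.inl ⟨h.mul_mem (hT hy) h2 (hT b.2) h3, h3⟩

theorem dc (hj : j ∈ A) (h2 : orderOf j = 2) : DC ⊤ j := fun _ _ _ _ ea eb na nb =>
  h.comm (h.mem (h.mem_H hj h2 ea) na) (h.mem (h.mem_H hj h2 eb) nb)

theorem ord (hy : y ∈ H) (h1 : y ∉ A) : orderOf y = 2 :=
  H11.orderOf_two_of (fun e => h1 (e ▸ one_mem A)) (h.sq y hy h1)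

theorem exists_out (hT : IsSylIn 2 T H) (hy : y ∈ H) (h1 : y ∉ A) :
    ∃ g ∈ H, g * y * g⁻¹ ∈ T ∧ g * y * g⁻¹ ∉ A := by
  obtain ⟨g, hg, h2⟩ := hT.exists_conj_invol_mem (h.ord hy h1) hy
  exact ⟨g, hg, h2, fun e => h1 (by simpa [mul_assoc] using h.conj_mem (inv_mem hg) e)⟩

theorem mem_syl (hT : IsSylIn 2 T H) (hj : j ∈ A) (h2 : orderOf j = 2) : j ∈ T :=
  hT.mem_of_commute (k := 1) h2 (h.le hj) fun _ hs =>
    h.central hj (mul_self_of_orderOf_two h2) (hT.le hs)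

/-- conjugates of central involutions -/
theorem ti (hj : j ∈ A) (h2 : orderOf j = 2) (hg : g * j * g⁻¹ ∈ A) : cj g H = H := by
  have := h.cent_eq hg ((H11.orderOf_conj _ _).trans h2)
  rwa [← H11.cj_cent1, h.cent_eq hj h2] at this

theorem conj_A (hg : cj g H = H) (ha : a ∈ A) (h2 : a * a = 1) : g * a * g⁻¹ ∈ A := by
  have h3 : ∀ y ∈ H, g⁻¹ * y * g ∈ H := fun y hy => H11.mem_cj.1 (hg.ge hy)
  refine by_contra fun h1 => h.not_comm (H11.cj_le_iff.1 hg.le a (h.le ha)) h1 ?_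
  rw [show a₀ = g * (g⁻¹ * a₀ * g) * g⁻¹ by group, conj_mul, conj_mul, h.central ha h2 (h3 _ h.a0)]

section Two

variable {i k : G} (hi : i ∈ A) (hk : k ∈ A) (i2 : orderOf i = 2) (k2 : orderOf k = 2) (ne : i ≠ k)
include hi hk i2 k2 ne

theorem sc (hj : j ∈ A) (h2 : orderOf j = 2) (hg : g * j * g⁻¹ ∈ H) : cj g H = H := by
  have h1 : ∀ a ∈ A, a * a = 1 → g⁻¹ * a * g⁻¹⁻¹ ∈ H := fun a ha h3 => h.mem_H hj h2 (by
    have := h.central ha h3 hg
    rw [show j = g⁻¹ * (g * j * g⁻¹) * g⁻¹⁻¹ by group, conj_mul, conj_mul, this])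
  have h3 : ∀ a ∈ A, orderOf a = 2 → g⁻¹ * a * g⁻¹⁻¹ ∈ A → cj g H = H := fun a ha h4 h5 => by
    nth_rw 1 [← h.ti ha h4 h5, H11.cj_cj_inv]
  have ii := mul_self_of_orderOf_two i2
  have kk := mul_self_of_orderOf_two k2
  by_cases h4 : g⁻¹ * i * g⁻¹⁻¹ ∈ A
  · exact h3 i hi i2 h4
  by_cases h5 : g⁻¹ * k * g⁻¹⁻¹ ∈ A
  · exact h3 k hk k2 h5
  refine h3 (i * k) (A.mul_mem hi hk) (H11.orderOf_two_of (fun e => ne ?_) ?_)
    (by rw [← conj_mul]; exact h.mul_mem (h1 i hi ii) h4 (h1 k hk kk) h5)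
  · rw [eq_inv_of_mul_eq_one_left e, inv_eq_of_mul_eq_one_right kk]
  · rw [mul_assoc, ← mul_assoc k, h.comm hk hi, mul_assoc, kk, mul_one, ii]

theorem syl (hT : IsSylIn 2 T H) : IsSylIn 2 T ⊤ := by_contra fun h1 => by
  obtain ⟨Q, hQ, h2, -, h3⟩ := H11.exists_lt_normalizer_of_not_isSylIn hT.pg le_top h1
  have h4 : Q ≤ normalizer (H : Set G) := fun g hg => H11.cj_eq_iff.1 (h.sc hi hk i2 k2 ne hi i2
    (hT.le ((mem_normalizer_iff.1 (h3 hg) i).1 (h.mem_syl hT hi i2))))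
  have h5 : ∀ z ∈ H ⊓ centralizer (H : Set G), z ∈ A ∧ z * z = 1 := fun z hz => by
    have h6 : z ∈ A := by_contra fun e => h.not_comm hz.1 e (hz.2 _ h.a0).symm
    have := h.inv h.xH h.xA h6
    rw [hz.2 x h.xH, mul_inv_cancel_right] at this
    exact ⟨h6, by nth_rw 1 [this]; simp⟩
  obtain ⟨z, hz, h6, h7⟩ := H11.exists_orderOf_eq_centralizer_of_normalized hQ
    (N := H ⊓ centralizer (H : Set G)) (fun z => ⟨1, Subtype.ext (by
      simpa [pow_two] using (h5 z z.2).2)⟩) (fun e => H11.ne_one_of_orderOf_two i2 (mem_bot.1 (e ▸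
        ⟨h.le hi, fun y hy => h.central hi (mul_self_of_orderOf_two i2) hy⟩)))
    (le_normalizer_inf h4 (h4.trans (normalizer_le_normalizer_centralizer _)))
  exact h2.ne' (hT.eq hQ h2.le fun q hq => h.mem_H (h5 z hz).1 h6 (h7 q hq))

theorem res_le (hy : y ∈ H) (h1 : y ∈ pResidual 2 G) : y ∈ A := by_contra fun h2 => by
  obtain ⟨T, hT⟩ := H11.exists_isSylIn 2 H
  obtain ⟨P, rfl⟩ := (h.syl hi hk i2 k2 ne hT).exists_sylow_top
  obtain ⟨g, -, h3, h4⟩ := h.exists_out hT hy h2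
  have h5 := h.ord (hT.le h3) h4
  rcases S0111.result P (A ⊓ P) inf_le_right (by
    rw [inf_relIndex_right]; exact h.relIndex hT.le fun e => h4 (e h3)) _ h5 h3
    (fun e => h4 e.1) with ⟨M, _, h6, h7⟩ | ⟨c, hc⟩
  · exact h7 (H3.pResidual_le_of_isPGroup_quotient (IsPGroup.of_card (show Nat.card (G ⧸ M) = 2 ^ 1 from h6))
      ((H3.pResidual_normal).conj_mem y h1 g))
  · have h6 := (H11.orderOf_conj c _).trans h5
    have h7 := h.sc hi hk i2 k2 ne hc.1 h6 (g := c⁻¹) (by simpa [mul_assoc] using hT.le h3)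
    exact h4 (by simpa [mul_assoc] using h.conj_A h7 hc.1 (mul_self_of_orderOf_two h6))

theorem ab_res (t : pResidual 2 G) (ht : orderOf t = 2) :
    IsMulCommutative (centralizer ({t} : Set (pResidual 2 G))) := by
  obtain ⟨T, hT⟩ := H11.exists_isSylIn 2 H
  have h2 := (orderOf_coe t).trans ht
  obtain ⟨g, -, hg⟩ := (h.syl hi hk i2 k2 ne hT).exists_conj_invol_mem h2 trivial
  have hn := (H3.pResidual_normal (p := 2) (G := G)).conj_mem
  have h1 := h.res_le hi hk i2 k2 ne (hT.le hg) (hn _ t.2 g)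
  have h3 : ∀ c : centralizer ({t} : Set (pResidual 2 G)), g * c.1.1 * g⁻¹ ∈ A := fun c =>
    h.res_le hi hk i2 k2 ne (h.mem_H h1 ((H11.orderOf_conj _ _).trans h2) (by
      rw [conj_mul, conj_mul, ← coe_mul, mem_cent1.1 c.2, coe_mul])) (hn _ c.1.2 g)
  refine ⟨⟨fun a b => Subtype.ext (Subtype.ext ?_)⟩⟩
  have := h.comm (h3 a) (h3 b)
  rw [conj_mul, conj_mul] at this
  simpa using this

theorem dcon_two (hs : ¬ Group.IsSolvable G) : DCon G := by
  obtain ⟨T, hT⟩ := H11.exists_isSylIn 2 H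
  obtain ⟨P, rfl⟩ := (h.syl hi hk i2 k2 ne hT).exists_sylow_top
  set K := pResidual 2 G
  have hK : ¬ Group.IsSolvable K := fun h1 => hs ((Group.isSolvable_iff_subgroup_quotient K).2
    ⟨h1, H1.isSolvable_of_isPGroup H3.isPGroup_quotient_pResidual⟩)
  obtain ⟨S⟩ : Nonempty (Sylow 2 K) := inferInstance
  have hA : H25.AI K := H25.AI.of_sylow (h.ab_res hi hk i2 k2 ne) (H21.sylowOf_top S)
    (fun h1 => hK (by
      have := (nil2_of_cyclic (H11.isSylIn_top S) h1).solvable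
      exact Group.isSolvable_of_surjective (f := (⊤ : Subgroup K).subtype) fun x => ⟨⟨x, trivial⟩, rfl⟩))
    fun h1 => hK (by
      haveI := normalizer_eq_top_iff.1 h1
      exact (Group.isSolvable_iff_subgroup_quotient (S : Subgroup K)).2
        ⟨H1.isSolvable_of_isPGroup S.isPGroup', FT.solvable_of_odd
          (Nat.not_even_iff_odd.1 (mt even_iff_two_dvd.1 S.not_dvd_index))⟩)
  obtain ⟨F, _, _, hF, ⟨e⟩⟩ := hA.psl (H21.sylowOf_top S)
  obtain ⟨n, hn, hTn⟩ := hA.four_le (H21.sylowOf_top S)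
  haveI : CharP F 2 := charP_of_card_eq_prime_pow (hF.trans hTn)
  have h4 : 4 ≤ Fintype.card F := by
    rw [hF, hTn]; exact Nat.pow_le_pow_right (n := 2) (by norm_num) hn
  obtain ⟨e'⟩ := H25.split_of_odd_center h4 (fun z hz => hA.toTII.odd_of_mem_center hz) e
  let ψ : SL(2, F) →* G := K.subtype.comp (e'.symm.toMonoidHom.comp (MonoidHom.inl _ _))
  have hψ : Function.Injective ψ := K.subtype_injective.comp (e'.symm.injective.comp
    (Prod.mk_left_injective 1))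
  have hp : commutator SL(2, F) = ⊤ := H12.commutator_SL_fin_eq_top 2 le_rfl fun _ => h4
  have hLK : ψ.range ≤ K := by rintro _ ⟨s, rfl⟩; exact (e'.symm _).2
  have dec : ∀ k : K, ∀ l ∈ ψ.range, k * l * k⁻¹ = ψ (e' k).1 * l * (ψ (e' k).1)⁻¹ := by
    rintro k _ ⟨s, rfl⟩
    rw [← map_inv, ← map_mul, ← map_mul]
    refine congrArg Subtype.val (e'.injective (?_ : e' (k * e'.symm (s, 1) * k⁻¹) = e' (e'.symm _)))
    simp [Prod.ext_iff]
  have hL : ψ.range = ⁅K, K⁆ := by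
    refine le_antisymm ?_ (commutator_le.2 fun a ha b hb => ⟨⁅(e' ⟨a, ha⟩).1, (e' ⟨b, hb⟩).1⁆, ?_⟩)
    · rw [MonoidHom.range_eq_map, ← hp, _root_.commutator_def, map_commutator, ← MonoidHom.range_eq_map]
      exact commutator_mono hLK hLK
    · refine congrArg Subtype.val (e'.injective (?_ : e' (e'.symm _) = e' ⁅(⟨a, ha⟩ : K), ⟨b, hb⟩⁆))
      rw [e'.apply_symm_apply, map_commutatorElement e']
      exact Prod.ext rfl (show ⁅(e' ⟨a, ha⟩).2, (e' ⟨b, hb⟩).2⁆ = 1 from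
        commutatorElement_eq_one_iff_mul_comm.2 (Subtype.ext
        (mem_center_iff.1 (e' ⟨b, hb⟩).2.2 _))).symm
  haveI : ψ.range.Normal := hL ▸ inferInstance
  have eL : ψ.range ≃* PSL(2, F) := (MonoidHom.ofInjective hψ).symm.trans H25.pslEquivSL.symm
  have hp' : commutator ψ.range = ⊤ :=
    perfect_of_surj hp ψ.rangeRestrict ψ.rangeRestrict_surjective
  haveI := H12.PSL_fin_simple (F := F) 2 le_rfl (fun _ => h4)
  haveI : IsSimpleGroup ψ.range := eL.isSimpleGroup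
  have ns := not_solvable_of_perfect hp'
  have nb : ∀ N : Subgroup ψ.range, N.Normal → Group.IsSolvable N → N = ⊥ := fun N hN h1 =>
    (IsSimpleGroup.eq_bot_or_eq_top_of_normal N hN).resolve_right (by
      rintro rfl
      exact ns (Group.isSolvable_of_surjective (f := (⊤ : Subgroup ψ.range).subtype)
        fun x => ⟨⟨x, trivial⟩, rfl⟩))
  have hZ := nb (center _) inferInstance (H1.isSolvable_of_isMulCommutative _)
  have hA' : ∀ y ∈ ψ.range ⊓ (P : Subgroup G), y ∈ A := fun y hy =>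
    h.res_le hi hk i2 k2 ne (hT.le hy.2) (hLK hy.1)
  obtain ⟨P', hP'⟩ := (H11.isSylIn_inf_normal P ψ.range).exists_sylow
  let ρ : G →* MulAut ψ.range := MulAut.conjNormal
  have hρ : ρ.range = (MulAut.conj (G := ψ.range)).range := by
    refine le_antisymm ?_ (by rintro _ ⟨l, rfl⟩; exact ⟨l, MulAut.conjNormal_val⟩)
    rintro _ ⟨g, rfl⟩
    obtain ⟨n, hn, t, ht, rfl⟩ := H3.exists_eq_pResidual_mul_sylow P g
    rw [map_mul]
    refine Subgroup.mul_mem _ ⟨⟨ψ (e' ⟨n, hn⟩).1, _, rfl⟩, ?_⟩ ?_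
    · ext l; exact (dec ⟨n, hn⟩ l l.2).symm
    obtain ⟨m, hm⟩ := P.isPGroup' ⟨t, ht⟩
    obtain ⟨l, hl⟩ := S4593.result hZ (nb _ inferInstance (solvable_of_odd odd_oddCore)) P'
      ⟨⟨fun a b => Subtype.ext (Subtype.ext (h.comm (hA' _ (hP'.le a.2)) (hA' _ (hP'.le b.2))))⟩⟩
      (ρ t) (by
        obtain ⟨r, -, hr⟩ := (Nat.dvd_prime_pow Nat.prime_two).1 (orderOf_dvd_of_pow_eq_one
          (show ρ t ^ 2 ^ m = 1 by rw [← map_pow, show t ^ 2 ^ m = 1 from congrArg Subtype.val hm,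
            map_one]))
        exact ⟨r, hr⟩) fun y hy => by
      obtain ⟨r, hr⟩ := P'.isPGroup' ⟨y, hy⟩
      obtain ⟨_, s, rfl⟩ := y
      obtain ⟨z, hz⟩ := H12.exists_mem_rootSL_of_pow 2 (g := s) (k := r) (hψ (by
        rw [map_pow, map_one]; exact congrArg (fun x : P' => (x.1.1 : G)) hr))
      refine Subtype.ext (mul_inv_eq_iff_eq_mul.2 (h.central (hA' _ (hP'.le hy)) ?_ (hT.le ht)))
      rw [← map_mul, ← pow_two, H12.pow_char_of_mem_rootSL 2 hz, map_one]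
    exact ⟨l, by ext y; rw [hl]; rfl⟩
  have hc : Function.Injective (MulAut.conj (G := ψ.range)) :=
    (injective_iff_map_eq_one _).2 fun a ha => mem_bot.1 (hZ ▸ mem_center_iff.2 fun w =>
      (mul_inv_eq_iff_eq_mul.1 (DFunLike.congr_fun ha w)).symm)
  refine dcon_of_hom ρ.rangeRestrict_surjective ?_ ⟨F, inferInstance, inferInstance, h4, Or.inl
    ⟨(MulEquiv.subgroupCongr hρ).trans ((MonoidHom.ofInjective hc).symm.trans eL)⟩⟩
  rw [MonoidHom.ker_rangeRestrict]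
  have hN := H11.isSylIn_inf_normal P ρ.ker
  have h5 : A ⊓ (ρ.ker ⊓ P) = ⊥ := by_contra fun h5 => by
    obtain ⟨z, hz, z2, -⟩ := H11.exists_orderOf_eq_centralizer_of_normalized (P := ⊥)
      IsPGroup.of_bot (hN.pg.to_le inf_le_right) h5 bot_le
    have h6 : ∀ l : ψ.range, (l : G) ∈ A := fun l => h.res_le hi hk i2 k2 ne (h.mem_H hz.1 z2
      (mul_inv_eq_iff_eq_mul.1 (congrArg Subtype.val (DFunLike.congr_fun hz.2.1 l))).symm) (hLK l.2)
    haveI : IsMulCommutative ψ.range := ⟨⟨fun a b => Subtype.ext (h.comm (h6 a) (h6 b))⟩⟩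
    exact ns (H1.isSolvable_of_isMulCommutative _)
  have h6 := H11.card_mul_relIndex hN.le
  have h7 := Nat.not_even_iff_odd.1 (mt even_iff_two_dvd.1 hN.not_dvd_relIndex)
  by_cases h8 : ρ.ker ⊓ P ≤ A
  · rw [inf_eq_right.2 h8] at h5
    rw [h5, card_bot, one_mul] at h6
    exact Or.inl (by rwa [← h6, ← h5])
  · have h9 := H11.card_mul_relIndex (inf_le_right (a := A) (b := ρ.ker ⊓ P))
    rw [inf_relIndex_right, h.relIndex (inf_le_right.trans hT.le) h8, h5, card_bot, one_mul] at h9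
    exact Or.inr ⟨_, h7, by rw [← h6, ← h9]⟩

end Two

theorem dcon_qd (hj : j ∈ A) (h2 : orderOf j = 2) (hu : ∀ i ∈ A, orderOf i = 2 → i = j)
    (hs : ¬ Group.IsSolvable G) (hT : IsSylIn 2 T H) (P : Sylow 2 G) (hTP : T < P) {n : ℕ}
    {X Y : ZMod (2 ^ n) → G} (m : MC P n (hh n) 0 X Y) : DCon G := by
  have hjT := h.mem_syl hT hj h2
  have nc : ∀ g : G, g * X (hh n) * g⁻¹ ≠ j := fun g e => (card_lt_of_lt hTP).not_ge (by
    rw [← card_conj (P : Subgroup G) g]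
    refine hT.card_le (P.isPGroup'.map _) (H11.cj_le_iff.2 fun s hs => h.mem_H hj h2 ?_)
    rw [← e, conj_mul, conj_mul, m.z_comm hs])
  have cj : IsConj (Y 0) j := (m.qd_invol (hTP.le hjT) h2).resolve_left fun e => nc 1 (by simp [e])
  have zj : X (hh n) ≠ j := by simpa using nc 1
  have hz := H6.zstar_sylow P m.orderOf_z (m.X_mem _) fun g hg =>
    (m.qd_invol hg ((H11.orderOf_conj _ _).trans m.orderOf_z)).resolve_right fun e => by
      obtain ⟨c, hc⟩ := isConj_iff.1 (e.symm.trans cj)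
      exact nc (c * g) (by rw [← hc]; group)
  set π := QuotientGroup.mk' (oddCore G)
  have hπ : Function.Surjective π := QuotientGroup.mk'_surjective _
  have hk : Odd (Nat.card π.ker) := by rw [QuotientGroup.ker_mk']; exact odd_oddCore
  set z := π (X (hh n)) with hzd
  have z2 : orderOf z = 2 := map_two hk m.orderOf_z
  have zz := mul_self_of_orderOf_two z2
  have jj := mul_self_of_orderOf_two (map_two hk h2)
  have zc : ∀ g, g * z = z * g := fun g => by
    obtain ⟨g, rfl⟩ := hπ g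
    have := (QuotientGroup.eq_one_iff _).2 (hz g)
    rw [← QuotientGroup.mk'_apply, map_mul, map_mul, map_mul, map_inv, map_inv, mul_inv_eq_one,
      mul_inv_eq_iff_eq_mul] at this
    exact this.symm
  have zc' : zpowers z ≤ center _ := zpowers_le.2 (mem_center_iff.2 zc)
  haveI : (zpowers z).Normal := ⟨fun x hx g => by
    rwa [mem_center_iff.1 (zc' hx) g, mul_inv_cancel_right]⟩
  set τ := QuotientGroup.mk' (zpowers z)
  have hτ : Function.Surjective τ := QuotientGroup.mk'_surjective _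
  have kτ : ∀ w, τ w = 1 ↔ w = 1 ∨ w = z := fun w =>
    (QuotientGroup.eq_one_iff w).trans (H11.mem_zpowers_invol zz)
  have zH : X (hh n) ∈ H := h.mem_H hj h2 (m.z_comm (hTP.le hjT)).symm
  have sq1 : ∀ c ∈ H, π c * π c = 1 := fun c hc => by
    by_cases h1 : c ∈ A
    · have := congrArg π (h.inv zH (fun e => zj (hu _ e m.orderOf_z)) h1)
      rw [map_mul, map_mul, map_inv, map_inv, ← zc, mul_inv_cancel_right] at this
      nth_rw 1 [this]; simp
    · rw [← map_mul, h.sq c hc h1, map_one]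
  have sq2 : ∀ a, a * π j = π j * a → a * a = 1 := fun a ha => by
    obtain ⟨c, rfl, hc⟩ := lift_comm hπ hk h2 ha
    exact sq1 c (h.mem_H hj h2 hc)
  have jz : π j * z ≠ 1 := by
    rw [← map_mul]
    refine H11.ne_one_of_orderOf_two (map_two hk (H11.orderOf_two_of (fun e => zj ?_) ?_))
    · rw [eq_inv_of_mul_eq_one_right e, inv_eq_of_mul_eq_one_right (mul_self_of_orderOf_two h2)]
    · rw [mul_assoc, ← mul_assoc (X _), ← m.z_comm (hTP.le hjT), mul_assoc,
        mul_self_of_orderOf_two m.orderOf_z, mul_one, mul_self_of_orderOf_two h2]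
  have j1 := H11.ne_one_of_orderOf_two (map_two hk h2)
  have four : ∀ a, a * π j = π j * a → a = 1 ∨ a = z ∨ a = π j ∨ a = π j * z := fun a ha => by
    obtain ⟨c, rfl, hc⟩ := lift_comm hπ hk h2 ha
    obtain ⟨t, ht, e⟩ := ((sylIn_map hT π).eq (Q := H.map π) (by
      rintro ⟨_, d, hd, rfl⟩
      exact ⟨1, Subtype.ext (by simpa [pow_two] using sq1 d hd)⟩) (map_mono hT.le) le_rfl).le
      ⟨c, h.mem_H hj h2 hc, rfl⟩
    obtain ⟨b, rfl | rfl⟩ := (m.mem j).1 (hTP.le hjT)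
    · exact absurd (by rw [m.orderOf_X_two.1 h2]) zj
    rw [← e, ← map_mul, m.YX]
    rcases m.mem_four.1 ((m.commute_Y_iff (hTP.le ht)).1 (mem_cent1.1 ((h.cent_eq hj h2).ge
      (hT.le ht)))) with e | e | e | e <;> simp [e, z]
  refine dcon_of_hom (f := τ.comp π) (hτ.comp hπ) (Or.inr ⟨_, hk, ?_⟩) (pc_of_cd (j := τ (π j))
    (cd_of_gen (S := (P : Subgroup G).map (τ.comp π)) (a := τ (π (X 1))) (s := τ (π (Y 0))) ?_ ?_
    ?_ ?_) (oddCore_of_central (H1.pPrimeCore_quotient_pPrimeCore 2) hτ (by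
      rwa [QuotientGroup.ker_mk'])) (fun e => hs (solvable_of_quot e)) (H11.orderOf_two_of ?_ (by
      rw [← map_mul, jj, map_one])) fun a _ b _ ha _ na _ => absurd ?_ na)
  · rw [← MonoidHom.comap_ker, QuotientGroup.ker_mk' (zpowers z), card_comap_mk',
      Nat.card_zpowers, z2, QuotientGroup.ker_mk', mul_comm]
  · have := sylIn_map (H11.isSylIn_top P) (τ.comp π)
    rwa [map_top_of_surjective (τ.comp π) (hτ.comp hπ)] at this
  · rintro _ ⟨s, hs, rfl⟩
    have e : ∀ a, (τ.comp π) (X a) ∈ closure {τ (π (X 1)), τ (π (Y 0))} := fun a => by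
      obtain ⟨k, hk⟩ := m.X_mem_zpowers_one a
      simpa [← hk] using zpow_mem left_mem_pair k
    obtain ⟨a, rfl | rfl⟩ := (m.mem s).1 hs
    · exact e a
    · rw [← zero_add a, ← m.YX, map_mul]; exact Subgroup.mul_mem _ right_mem_pair (e a)
  · rw [← map_mul, ← map_mul, mul_self_of_orderOf_two m.qd_o0, map_one, map_one]
  · simp only [← map_inv, ← map_mul]
    rw [m.YXY, mul_one, ← m.XX, map_mul, map_mul, (kτ z).2 (Or.inr rfl), mul_one, m.X_inv]
  · refine fun e => ((kτ _).1 e).elim j1 fun e => jz (by rw [e, zz])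
  obtain ⟨a, rfl⟩ := hτ a
  rw [← map_mul, kτ]
  have e : a * π j * a⁻¹ * (π j)⁻¹ = 1 ∨ a * π j * a⁻¹ * (π j)⁻¹ = z := by
    rw [← kτ, map_mul, map_mul, map_mul, ha, map_inv, map_inv]; group
  rw [mul_inv_eq_one, mul_inv_eq_iff_eq_mul, mul_inv_eq_iff_eq_mul, mul_inv_eq_iff_eq_mul] at e
  rcases e with e | e
  · exact Or.inl (sq2 a e)
  rcases four (a * a) (by rw [mul_assoc, e, ← mul_assoc, ← mul_assoc, zc, mul_assoc z, e,
    ← mul_assoc, ← mul_assoc, zz, one_mul, mul_assoc]) with e' | e' | e' | e'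
  · exact Or.inl e'
  · exact Or.inr e'
  · exact absurd (e'.symm.trans (sq2 a (by rw [← e', mul_assoc]))) j1
  · refine absurd (e'.symm.trans (sq2 a (mul_right_cancel (b := z) ?_))) jz
    rw [mul_assoc, mul_assoc, zc a, ← mul_assoc (π j), ← e', mul_assoc]

theorem dcon_one (hj : j ∈ A) (h2 : orderOf j = 2) (hu : ∀ i ∈ A, orderOf i = 2 → i = j)
    (hs : ¬ Group.IsSolvable G) : DCon G := by
  obtain ⟨T, hT⟩ := H11.exists_isSylIn 2 H
  obtain ⟨g, -, hy, hyA⟩ := h.exists_out hT h.xH h.xA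
  have hjT := h.mem_syl hT hj h2
  haveI : IsMulCommutative ↥(A ⊓ T) := ⟨⟨fun a b => Subtype.ext (h.comm a.2.1 b.2.1)⟩⟩
  obtain ⟨⟨c, hcA, hcT⟩, hc⟩ := (H1.isCyclic_of_unique_order_p (hT.pg.to_le
    (inf_le_right (a := A))) fun a b ha hb => by
      by_cases e : b = 1
      · exact e ▸ one_mem _
      · rw [show b = a from Subtype.ext ((hu _ b.2.1 ((orderOf_coe b).trans
          (orderOf_eq_prime hb e))).trans (hu _ a.2.1 ((orderOf_coe a).trans ha)).symm)]
        exact mem_zpowers a).exists_generator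
  have hc' : ∀ a ∈ A, a ∈ T → ∃ k : ℤ, c ^ k = a := fun a ha hb =>
    (hc ⟨a, ha, hb⟩).imp fun k hk => congrArg Subtype.val hk
  by_cases h1 : IsSylIn 2 T ⊤
  · refine dcon_of_cd (cd_of_gen h1 (fun t ht => ?_) (h.sq _ (hT.le hy) hyA)
      (h.inv (hT.le hy) hyA hcA)) hs h2 (h.dc hj h2)
    have e : ∀ a ∈ A, a ∈ T → a ∈ closure {c, g * x * g⁻¹} := fun a ha hb => by
      obtain ⟨k, rfl⟩ := hc' a ha hb
      exact zpow_mem left_mem_pair k
    by_cases h3 : t ∈ A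
    · exact e t h3 ht
    · exact (mul_mem_cancel_left right_mem_pair).1
        (e _ (h.mul_mem (hT.le hy) hyA (hT.le ht) h3) (T.mul_mem hy ht))
  obtain ⟨k, hk⟩ := hc' j hj hjT
  have h3 : c * c = 1 := by_contra fun h3 => h1 (hT.of_normalizer_le le_top fun u _ hu' => by
    have h4 := h.mem (hT.le ((mem_normalizer_iff.1 hu' c).1 hcT)) (by simpa [conj_mul] using h3)
    refine h.mem_H hj h2 (mul_inv_eq_iff_eq_mul.1 (hu _ ?_ ((H11.orderOf_conj _ _).trans h2)))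
    rw [← hk, ← conj_zpow]; exact zpow_mem h4 k)
  have h4 := H11.card_mul_relIndex (inf_le_right (a := A) (b := T))
  rw [inf_relIndex_right, h.relIndex hT.le fun e => hyA (e hy), show A ⊓ T = zpowers c from
    le_antisymm (fun a ha => hc' a ha.1 ha.2) (zpowers_le.2 ⟨hcA, hcT⟩), Nat.card_zpowers,
    H11.orderOf_two_of (fun e => H11.ne_one_of_orderOf_two h2 (by simp [← hk, e])) h3] at h4
  obtain ⟨P, hP⟩ := hT.pg.exists_le_sylow
  have h5 : T < P := hP.lt_of_ne fun e => h1 (e ▸ H11.isSylIn_top P)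
  have h6 := hT.eq (P.isPGroup'.to_inf_left (K := H)) (le_inf hP hT.le) inf_le_right
  rcases S3224.result P.isPGroup' ⟨j, hP hjT⟩ ((orderOf_mk _ _).trans h2) (by
    rw [show centralizer {(⟨j, hP hjT⟩ : P)} = T.subgroupOf P from Subgroup.ext fun s => by
      rw [← h6, mem_cent1, mem_subgroupOf, ← h.cent_eq hj h2, mem_inf, mem_cent1, Subtype.ext_iff]
      simp, Nat.card_congr (subgroupOfEquivOfLe hP).toEquiv, ← h4]) with ⟨n, ⟨e⟩⟩ | e | e
  · obtain ⟨a, s, h7, -⟩ := exists_dihPair_of_equiv (by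
      rintro rfl
      have := Nat.card_congr e.toEquiv
      rw [DihedralGroup.nat_card] at this
      exact Nat.card_pos.ne' this) e
    exact dcon_of_cd (cd_of_gen (H11.isSylIn_top P) h7.1.le h7.2.1 h7.2.2.1) hs h2 (h.dc hj h2)
  · obtain ⟨n, X, Y, -, m⟩ := H11.exists_MC_of_qd e
    exact h.dcon_qd hj h2 hu hs hT P h5 m
  · exact absurd (card_lt_of_lt h5) (by omega)

end DH

end Cfsg.Agent.GW
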