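import Cfsg.Agent.GW.DG2
import Cfsg.Agent.H11.SRank

/-!
# Groups in which subgroups of cyclic groups of even order have the same normalizer
-/

set_option autoImplicit false
set_option linter.style.haveILetI false
set_option linter.unusedSectionVars false

namespace Cfsg.Agent.GW

open Subgroup Cfsg.Agent.H10
open Cfsg.Agent.H11 (cj IsSylIn mem_cent1 mul_self_of_orderOf_two ne_one_of_orderOf_two
  orderOf_two_of)

universe u

variable {G : Type u} [Group G] [Finite G] {g h i j k l t u x y : G}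

local notation "C" x:max => centralizer (singleton x : Set _)

theorem nm_iff : g ∈ normalizer (zpowers y : Set G) ↔ g * y * g⁻¹ ∈ zpowers y := by
  rw [← H11.cj_eq_iff, H11.cj_zpowers]
  exact ⟨fun e => e ▸ mem_zpowers _, fun e => eq_of_le_of_card_ge (zpowers_le.2 e) (by
    rw [Nat.card_zpowers, Nat.card_zpowers, orderOf_conj])⟩

theorem o4 (h : orderOf (k * k) = 2) : orderOf k = 4 :=
  orderOf_eq_prime_pow (p := 2) (n := 1) (by simpa [pow_two] using ne_one_of_orderOf_two h)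
    (by rw [← mul_self_of_orderOf_two h, ← pow_two, ← pow_two k, ← pow_mul]; rfl)

theorem o4_conj (h : orderOf (k * k) = 2) (g : G) : orderOf (g * k * g⁻¹ * (g * k * g⁻¹)) = 2 := by
  rw [conj_mul, orderOf_conj, h]

theorem o4_inv (h : orderOf (k * k) = 2) : k⁻¹ * k⁻¹ = k * k := by
  rw [← mul_inv_rev, H11.inv_eq_of_orderOf_two h]

theorem sq_mul (e : k * l = l * k) : k * l * (k * l) = k * k * (l * l) := by
  rw [mul_assoc, ← mul_assoc l, ← e]; group

theorem two_mul (hi : orderOf i = 2) (hj : orderOf j = 2) (ne : i ≠ j) (e : i * j = j * i) :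
    orderOf (i * j) = 2 :=
  orderOf_two_of (fun h => ne (by
    rw [eq_inv_of_mul_eq_one_left h, H11.inv_eq_of_orderOf_two hj])) (by
    rw [sq_mul e, mul_self_of_orderOf_two hi, mul_self_of_orderOf_two hj, one_mul])

theorem norm_mem (uu : orderOf u = 2) (e : u * h * u⁻¹ ∈ zpowers h) : h * (u * h * u⁻¹) ∈ C u := by
  obtain ⟨c, hc⟩ := e
  have h1 : h * (u * h * u⁻¹) = u * h * u⁻¹ * h := by rw [← show h ^ c = _ from hc]; group
  rw [mem_cent1]
  nth_rw 2 [h1]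
  rw [show u * (u * h * u⁻¹ * h) = u * u * h * u⁻¹ * h by group, mul_self_of_orderOf_two uu]
  nth_rw 2 [H11.inv_eq_of_orderOf_two uu]
  group

/-- the normalizer condition, elementwise -/
def II (G : Type*) [Group G] : Prop :=
  ∀ x t y g : G, t ∈ zpowers x → orderOf t = 2 → y ∈ zpowers x → y ≠ 1 →
    (g * y * g⁻¹ ∈ zpowers y ↔ g ∈ C t)

/-- squares of elements of order four of `C(j)` have the centralizer `C(j)` -/
def Rich (j : G) : Prop := ∀ k ∈ C j, orderOf (k * k) = 2 → C (k * k) = C j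

theorem Rich.conj (r : Rich j) (g : G) : Rich (g * j * g⁻¹) := fun k hk h2 => by
  rw [← H11.cj_cent1, H11.mem_cj] at hk
  have := r _ hk (by simpa using o4_conj h2 g⁻¹)
  rw [← H11.cj_cent1, ← this, H11.cj_cent1]
  congr 2; group

theorem exists_small (hh : h * h ≠ 1) :
    ∃ k ∈ zpowers h, ((orderOf k).Prime ∧ Odd (orderOf k)) ∨ orderOf (k * k) = 2 := by
  have h0 := orderOf_pos h
  by_cases h4 : 4 ∣ orderOf h
  · refine ⟨h ^ (orderOf h / 4), pow_mem (mem_zpowers h) _, Or.inr ?_⟩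
    rw [← pow_add, show orderOf h / 4 + orderOf h / 4 = orderOf h / 2 by omega]
    exact H11.orderOf_pow_half h0 (even_iff_two_dvd.2 (by omega))
  have h1 : orderOf (h * h) ≠ 1 := mt orderOf_eq_one_iff.1 hh
  have h2 : ¬ 2 ∣ orderOf (h * h) := fun e => by
    rw [← pow_two, orderOf_pow' _ two_ne_zero] at e
    rcases (Nat.dvd_prime Nat.prime_two).1 (Nat.gcd_dvd_right (orderOf h) 2) with h3 | h3
    · rw [h3, Nat.div_one] at e
      exact absurd (h3 ▸ Nat.dvd_gcd e dvd_rfl : 2 ∣ 1) (by decide)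
    · have := Nat.gcd_dvd_left (orderOf h) 2
      rw [h3] at e this; omega
  have h3 := Nat.minFac_dvd (orderOf (h * h))
  have h5 := Nat.minFac_prime h1
  have h6 := orderOf_pow_orderOf_div (orderOf_pos (h * h)).ne' h3
  exact ⟨_, pow_mem (mul_mem (mem_zpowers h) (mem_zpowers h)) _, Or.inl ⟨h6.symm ▸ h5,
    h6.symm ▸ h5.odd_of_ne_two fun e => h2 (e ▸ h3)⟩⟩

namespace II

variable (H : II G)
include H

theorem odd (ht : orderOf t = 2) (hy : Odd (orderOf y)) (y1 : y ≠ 1) (e : y ∈ C t) :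
    g * y * g⁻¹ ∈ zpowers y ↔ g ∈ C t := by
  have h1 : t ∈ zpowers (y * t) := ⟨orderOf y, by
    obtain ⟨m, hm⟩ := hy
    simp only [zpow_natCast]
    rw [Commute.mul_pow (mem_cent1.1 e), pow_orderOf_eq_one, hm, pow_succ, pow_mul, pow_two,
      mul_self_of_orderOf_two ht]; simp⟩
  exact H _ t y g h1 ht (by simpa using mul_mem (mem_zpowers (y * t)) (inv_mem h1)) y1

theorem eq_of_odd (ht : orderOf t = 2) (hj : orderOf j = 2) (hy : Odd (orderOf y)) (y1 : y ≠ 1)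
    (e : y ∈ C t) (e' : y ∈ C j) : C t = C j :=
  Subgroup.ext fun _ => (H.odd ht hy y1 e).symm.trans (H.odd hj hy y1 e')

theorem four (hk : orderOf (k * k) = 2) (e : g ∈ C (k * k)) :
    g * k * g⁻¹ = k ∨ g * k * g⁻¹ = k⁻¹ :=
  H11.zpowers_eq_of_orderOf_four ((orderOf_conj _ _).trans (o4 hk)) (o4 hk)
    ((H k _ k g (mul_mem (mem_zpowers k) (mem_zpowers k)) hk (mem_zpowers k)
      (by rintro rfl; simp at hk)).2 e)

theorem comm4 (hk : orderOf (k * k) = 2) (hl : orderOf (l * l) = 2) (ne : k * k ≠ l * l)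
    (e : l ∈ C (k * k)) (e' : k ∈ C (l * l)) : k * l = l * k := by
  rcases H.four hk e with h1 | h1
  · exact (mul_inv_eq_iff_eq_mul.1 h1).symm
  rcases H.four hl e' with h2 | h2
  · exact mul_inv_eq_iff_eq_mul.1 h2
  refine absurd ?_ ne
  rw [← o4_inv hk]
  nth_rw 1 [← h1]
  rw [show l * k * l⁻¹ * k⁻¹ = l * (k * l * k⁻¹)⁻¹ by group, h2, inv_inv]

theorem key {P : Subgroup G} (hk : orderOf (k * k) = 2) (hkP : k ∈ P)
    (hn : x ∈ normalizer ((P ⊓ C (k * k) : Subgroup G) : Set G)) (h1 : x ∉ C (k * k))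
    (h2 : x * x ∈ C (k * k)) : x * x = 1 ∧ x * k * x⁻¹ * k = k * (x * k * x⁻¹) := by
  have kk : k ∈ P ⊓ C (k * k) := ⟨hkP, mem_cent1.2 (mul_assoc _ _ _).symm⟩
  have hl := o4_conj hk x
  have ne : k * k ≠ x * k * x⁻¹ * (x * k * x⁻¹) := fun e => h1 (mem_cent1.2 (by
    rw [conj_mul] at e; exact mul_inv_eq_iff_eq_mul.1 e.symm))
  have h3 := H.comm4 hk hl ne ((mem_normalizer_iff.1 hn k).1 kk).2 (by
    rw [conj_mul, ← H11.cj_cent1, H11.mem_cj]
    simpa using ((mem_normalizer_iff.1 (inv_mem hn) k).1 kk).2)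
  obtain ⟨l, ld⟩ : ∃ l, l = x * k * x⁻¹ := ⟨_, rfl⟩
  rw [← ld] at hl ne h3 ⊢
  have h4 : l * l * (k * k) = k * k * (l * l) := by rw [← sq_mul h3, ← sq_mul h3.symm, h3]
  have h5 : x * l * x⁻¹ = x * x * k * (x * x)⁻¹ := by rw [ld]; group
  have h6 : x * x * k * (x * x)⁻¹ = k := (H.four hk h2).resolve_right fun e => by
    have h7 : x * (k * l) * x⁻¹ = l * k⁻¹ := by rw [← conj_mul, h5, e, ← ld]
    rcases H.four (k := k * l) (g := x) (by rw [sq_mul h3]; exact two_mul hk hl ne h4.symm)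
      (mem_cent1.2 (by
        rw [← mul_inv_eq_iff_eq_mul, ← conj_mul, h7, sq_mul h3,
          sq_mul (Commute.inv_right h3.symm).eq, o4_inv hk, h4])) with h8 | h8
    · rw [h7, h3, mul_right_inj, inv_eq_iff_mul_eq_one] at h8
      exact ne_one_of_orderOf_two hk h8
    · rw [h7, mul_inv_rev, mul_left_inj, ← mul_eq_one_iff_eq_inv] at h8
      exact ne_one_of_orderOf_two hl h8
  refine ⟨by_contra fun h7 => ne ?_, h3.symm⟩
  obtain ⟨c, hc⟩ : k * x * k⁻¹ ∈ zpowers x := by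
    by_cases h8 : Odd (orderOf x)
    · obtain ⟨m, hm⟩ := H11.exists_sq_eq_of_odd h8
      exact absurd (by rw [← hm, ← pow_mul, mul_comm, pow_mul, pow_two]; exact pow_mem h2 m) h1
    have h9 := (H x _ (x * x) k (pow_mem (mem_zpowers x) _) (H11.orderOf_pow_half (orderOf_pos x)
      (Nat.not_odd_iff_even.1 h8)) (mul_mem (mem_zpowers x) (mem_zpowers x)) h7).1 (by
        rw [← mul_inv_eq_iff_eq_mul.1 h6, mul_inv_cancel_right]; exact mem_zpowers _)
    exact (H x _ x k (pow_mem (mem_zpowers x) _) (H11.orderOf_pow_half (orderOf_pos x)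
      (Nat.not_odd_iff_even.1 h8)) (mem_zpowers x) (by rintro rfl; simp at h7)).2 h9
  have h8 : x * (k * l⁻¹) * x⁻¹ = k * l⁻¹ := by
    rw [show k * l⁻¹ = k * x * k⁻¹ * x⁻¹ by rw [ld]; group, ← show x ^ c = _ from hc]; group
  rw [← conj_mul, ← conj_inv (a := l), h5, h6, ← ld, mul_inv_eq_iff_eq_mul] at h8
  rw [show k * k = k * l⁻¹ * k * (k⁻¹ * l * k) by group, ← h8, mul_assoc k⁻¹, ← h3]; group

/-- squares of elements of order four are central in each `2`-subgroup -/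
theorem le_cent {P : Subgroup G} (hP : IsPGroup 2 P) (hk : orderOf (k * k) = 2) (hkP : k ∈ P) :
    P ≤ C (k * k) := by_contra fun h1 => by
  obtain ⟨x, ⟨xP, hn⟩, h2, h3⟩ := H11.exists_sq_mem_of_not_le (hP.to_le inf_le_left)
    (H11.lt_inf_normalizer_of_lt hP (inf_lt_left.2 h1)).not_ge
  have kk : k ∈ P ⊓ C (k * k) := ⟨hkP, mem_cent1.2 (mul_assoc _ _ _).symm⟩
  obtain ⟨h4, -⟩ := H.key hk hkP hn (fun e => h2 ⟨xP, e⟩) h3.2
  have e : x * k * (x * k) = x * k * x⁻¹ * k := by rw [inv_eq_of_mul_eq_one_right h4]; group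
  obtain ⟨h5, -⟩ := H.key hk hkP (mul_mem hn (le_normalizer kk))
    (fun e => h2 ⟨xP, (Subgroup.mul_mem_cancel_right _ kk.2).1 e⟩)
    (e ▸ mul_mem ((mem_normalizer_iff.1 hn k).1 kk).2 kk.2)
  refine h2 ⟨xP, mem_cent1.2 ?_⟩
  rw [← mul_inv_eq_iff_eq_mul, ← conj_mul, eq_inv_of_mul_eq_one_left (e.symm.trans h5), o4_inv hk]

theorem nrm (hj : orderOf j = 2) (r : Rich j) (hh : h ∈ C j) (h2 : h * h ≠ 1)
    (hy : y ∈ zpowers h) (y1 : y ≠ 1) : g * y * g⁻¹ ∈ zpowers y ↔ g ∈ C j := by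
  obtain ⟨k, hk, h1 | h1⟩ := exists_small h2
  · have k1 : k ≠ 1 := fun e => h1.1.ne_one (by simp [e])
    by_cases h3 : Odd (orderOf h)
    · exact H.odd hj (h3.of_dvd_nat (orderOf_dvd_of_mem_zpowers hy)) y1 (zpowers_le.2 hh hy)
    have h4 := H11.orderOf_pow_half (orderOf_pos h) (Nat.not_odd_iff_even.1 h3)
    rw [H h _ y g (pow_mem (mem_zpowers h) _) h4 hy y1, H.eq_of_odd h4 hj h1.2 k1 (by
      obtain ⟨c, rfl⟩ := hk
      exact zpow_mem (mem_cent1.2 (Commute.self_pow h _).eq) c) (zpowers_le.2 hh hk)]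
  · rw [H h _ y g (mul_mem hk hk) h1 hy y1, r k (zpowers_le.2 hh hk) h1]

section Good

variable (hj : orderOf j = 2) (r : Rich j) (hu : orderOf u = 2) (uj : u ∈ C j) (ne : C u ≠ C j)
  (h4 : ∀ k ∈ C j, orderOf (k * k) = 2 → k ∉ C u)
include hj r hu uj ne h4

theorem noc (hh : h ∈ C j) (h2 : h * h ≠ 1) : h ∉ C u := fun e => by
  obtain ⟨k, hk, h1 | h1⟩ := exists_small h2
  · exact ne (H.eq_of_odd hu hj h1.2 (fun e => h1.1.ne_one (by simp [e])) (zpowers_le.2 e hk)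
      (zpowers_le.2 hh hk))
  · exact h4 k (zpowers_le.2 hh hk) h1 (zpowers_le.2 e hk)

theorem inv (hh : h ∈ C j) (h2 : h * h ≠ 1) : u * h * u⁻¹ = h⁻¹ := by
  have ui := H11.inv_eq_of_orderOf_two hu
  have h3 : h * (u * h * u⁻¹) * (h * (u * h * u⁻¹)) = 1 := by_contra fun e =>
    H.noc hj r hu uj ne h4 (mul_mem hh (mul_mem (mul_mem uj hh) (inv_mem uj))) e (norm_mem hu
      ((H.nrm hj r hh h2 (mem_zpowers h) (by rintro rfl; simp at h2)).2 uj))
  refine eq_inv_of_mul_eq_one_right (by_contra fun e => ?_)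
  have h5 : h * u * (h * u) = h * (u * h * u⁻¹) := by rw [ui]; group
  have h6 := orderOf_two_of e h3
  rcases H.four (k := h * u) (g := u) (h5 ▸ h6) ((r _ (mul_mem hh uj) (h5 ▸ h6)).ge uj) with e | e
  · exact h4 _ (mul_mem hh uj) (h5 ▸ h6) (mem_cent1.2 (mul_inv_eq_iff_eq_mul.1 e).symm)
  · rw [mul_assoc, mul_inv_cancel_right, mul_inv_rev, ui, mul_right_inj, ← mul_eq_one_iff_eq_inv] at e
    exact h2 e

theorem dgrp : ∃ A < C j, ∀ x ∈ C j, x ∉ A → x ^ 2 = 1 := by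
  by_cases h0 : ∀ x ∈ C j, x * x = 1
  · exact ⟨⊥, bot_lt_iff_ne_bot.2 fun e => ne_one_of_orderOf_two hu (mem_bot.1 (e ▸ uj)),
      fun x hx _ => (pow_two x).trans (h0 x hx)⟩
  push Not at h0
  obtain ⟨h, hh, h2⟩ := h0
  obtain ⟨k, hk, h1⟩ := exists_small h2
  have kj := zpowers_le.2 hh hk
  have kk : k * k ≠ 1 := h1.elim (fun e e' => by
    rw [H11.eq_one_of_odd_of_sq e.2 e'] at e; simp [Nat.not_prime_one] at e) ne_one_of_orderOf_two
  have k1 : k ≠ 1 := by rintro rfl; simp at kk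
  refine ⟨C j ⊓ C k, inf_lt_left.2 fun e => H.noc hj r hu uj ne h4 kj kk
    (mem_cent1.2 (mem_cent1.1 (e uj)).symm), fun x hx h3 => by_contra fun h5 => h3 ⟨hx, ?_⟩⟩
  rw [pow_two] at h5
  have h6 := (H.nrm hj r hx h5 (mem_zpowers x) (by rintro rfl; simp at h5)).2 kj
  rcases h1 with h1 | h1
  · have h7 := (H.nrm hj r kj kk (mem_zpowers k) k1).2 hx
    refine mem_cent1.2 (by_contra fun h8 => ?_)
    have h9 : x * k * x⁻¹ * k⁻¹ ∈ zpowers x := by
      simpa [mul_assoc] using mul_mem (mem_zpowers x) (inv_mem h6)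
    obtain ⟨c, hc⟩ := (zpowers_le.2 h9) (mem_zpowers_of_prime_card (g := (⟨_, mul_mem h7
      (inv_mem (mem_zpowers k))⟩ : zpowers k)) (g' := ⟨k, mem_zpowers k⟩) (p := orderOf k)
      (hp := ⟨h1.1⟩) (Nat.card_zpowers k) (fun e => h8 (by
        simpa [mul_inv_eq_one, mul_inv_eq_iff_eq_mul] using congrArg Subtype.val e)) |>.imp
        fun c hc => congrArg Subtype.val hc)
    exact h8 (by rw [← show x ^ c = k from hc]; group)
  refine mem_cent1.2 (mul_inv_eq_iff_eq_mul.1 ((H.four h1 ((r k kj h1).ge hx)).resolve_right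
    fun e => ?_))
  have h7 := H.inv hj r hu uj ne h4 (mul_mem hx kj) (by
    rwa [show x * k * (x * k) = x * k * x⁻¹ * x * (x * k * x⁻¹) * x by group, e,
      show k⁻¹ * x * k⁻¹ * x = k⁻¹ * (x * k * x⁻¹)⁻¹ * (x * x) by group, e, inv_inv,
      inv_mul_cancel, one_mul])
  rw [← conj_mul, H.inv hj r hu uj ne h4 hx h5, H.inv hj r hu uj ne h4 kj kk, ← mul_inv_rev,
    inv_inj] at h7
  rw [← h7, mul_inv_cancel_right, ← mul_eq_one_iff_eq_inv] at e
  exact kk e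

end Good

variable (Z : ∀ t : G, orderOf t = 2 → ∃ g, g * t * g⁻¹ ∈ C t ∧ g * t * g⁻¹ ≠ t)
include Z

theorem rich_of_odd (hj : orderOf j = 2) (hy : Odd (orderOf y)) (y1 : y ≠ 1) (e : y ∈ C j) :
    Rich j := fun k kj hk => by_contra fun ne => by
  have inv : ∀ a ∈ C j, orderOf a = 2 → C a ≠ C j → a * y * a⁻¹ = y⁻¹ := fun a ha a2 h1 => by
    have h2 := (H.odd hj hy y1 e).2 ha
    have h3 := mul_mem (mem_zpowers y) h2
    exact eq_inv_of_mul_eq_one_right (by_contra fun h4 => h1 (H.eq_of_odd a2 hj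
      (hy.of_dvd_nat (orderOf_dvd_of_mem_zpowers h3)) h4 (norm_mem a2 h2) (zpowers_le.2 e h3)))
  have jj := mul_self_of_orderOf_two hj
  have kj2 : k * j * (k * j) = k * k := by rw [sq_mul (mem_cent1.1 kj), jj, mul_one]
  have hkj : orderOf (k * j * (k * j)) = 2 := kj2 ▸ hk
  have hP : IsPGroup 2 (C (k * k)) := fun ⟨c, hc⟩ => by
    obtain ⟨a, ha⟩ := H25.exists_pow_prime_pow_coprime 2 Nat.prime_two c
    refine ⟨a, Subtype.ext (by_contra fun h1 => ne ?_)⟩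
    have h2 := pow_mem hc (2 ^ a)
    have sq : ∀ l, orderOf (l * l) = 2 → c ^ 2 ^ a ∈ C (l * l) → c ^ 2 ^ a * c ^ 2 ^ a ∈ C l :=
      fun l hl h3 => mem_cent1.2 (by
        rw [← mul_inv_eq_iff_eq_mul, show ∀ d : G, d * d * l * (d * d)⁻¹ = d * (d * l * d⁻¹) * d⁻¹
          from fun d => by group]
        rcases H.four hl h3 with h4 | h4 <;> rw [h4]
        exacts [h4, by rw [← conj_inv, h4, inv_inv]])
    refine H.eq_of_odd hk hj (odd_iff_coprime.2 ha) h1 h2 ?_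
    obtain ⟨m, hm⟩ := H11.exists_sq_eq_of_odd (odd_iff_coprime.2 ha)
    rw [← hm, ← pow_mul, mul_comm, pow_mul, pow_two]
    refine pow_mem (mem_cent1.2 (mul_left_cancel (a := k) ?_)) m
    rw [← mul_assoc, ← mem_cent1.1 (sq k hk h2), mul_assoc, mem_cent1.1 (sq _ hkj (kj2 ▸ h2)),
      mul_assoc]
  obtain ⟨g, hv, vi⟩ := Z _ hk
  obtain ⟨v, vd⟩ : ∃ v, v = g * (k * k) * g⁻¹ := ⟨_, rfl⟩
  have v2 : orderOf v = 2 := vd ▸ (orderOf_conj _ _).trans hk
  have hV : IsPGroup 2 (C v) := by rw [vd, ← H11.cj_cent1]; exact hP.map _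
  rw [← vd] at hv vi
  have iv : v ∈ C j → C (v * (k * k)) = C j := fun vj => H.eq_of_odd
    (two_mul v2 hk vi (mem_cent1.1 hv)) hj hy y1 (mem_cent1.2 (by
      rw [eq_comm, ← mul_inv_eq_iff_eq_mul, show v * (k * k) * y * (v * (k * k))⁻¹ =
        v * (k * k * y * (k * k)⁻¹) * v⁻¹ by group, inv _ (mul_mem kj kj) hk ne, ← conj_inv,
        inv v vj v2 fun e' => y1 (by
          obtain ⟨a, ha⟩ := hV ⟨y, e'.ge e⟩
          exact orderOf_eq_one_iff.1 ((Nat.coprime_self _).1 ((odd_iff_coprime.1 hy).pow_right a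
            |>.coprime_dvd_right (orderOf_dvd_of_pow_eq_one (congrArg Subtype.val ha))))),
        inv_inv])) e
  have h1 : C v = C (k * k) := by
    refine eq_of_le_of_card_ge ?_ (by rw [vd, ← H11.cj_cent1, card_conj])
    rcases H.four hk hv with h1 | h1
    · exact H.le_cent hV hk (mem_cent1.2 (mul_inv_eq_iff_eq_mul.1 h1).symm)
    rcases H.four hkj (kj2 ▸ hv) with h2 | h2
    · exact kj2 ▸ H.le_cent hV hkj (mem_cent1.2 (mul_inv_eq_iff_eq_mul.1 h2).symm)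
    rw [← conj_mul, h1, mul_inv_rev, H11.inv_eq_of_orderOf_two hj,
      ← (Commute.inv_left (mem_cent1.1 kj)).eq, mul_right_inj, mul_inv_eq_iff_eq_mul] at h2
    have h3 := mem_cent1.1 ((iv (mem_cent1.2 h2)).ge kj)
    rw [show v * (k * k) * k = v * k * (k * k) by group, ← mul_assoc, mul_left_inj] at h3
    rw [← h3, mul_inv_cancel_right, ← mul_eq_one_iff_eq_inv] at h1
    exact absurd h1 (ne_one_of_orderOf_two hk)
  have h2 := iv (mem_cent1.2 (mem_cent1.1 (h1.ge (mem_cent1.2 (mem_cent1.1 (mul_mem kj kj)).symm))).symm)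
  have hl := o4_conj hk g
  have ll : g * k * g⁻¹ * (g * k * g⁻¹) = v := by rw [conj_mul, vd]
  generalize g * k * g⁻¹ = l at hl ll
  have lv : l ∈ C v := mem_cent1.2 (by rw [← ll, mul_assoc])
  have h3 := H.comm4 hk hl (ll ▸ vi.symm) (h1.le lv) (ll ▸ h1.ge (mem_cent1.2 (mul_assoc _ _ _).symm))
  have key : ∀ w, w * w = v * (k * k) → w ∈ C y := fun w hw => by
    have h4 : orderOf (w * w) = 2 := hw ▸ two_mul v2 hk vi (mem_cent1.1 hv)
    have h5 : w ∈ C j := (hw ▸ h2 : C (w * w) = C j).le (mem_cent1.2 (mul_assoc _ _ _).symm)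
    have h6 := (H.odd hj hy y1 e).2 h5
    refine mem_cent1.2 (mul_inv_eq_iff_eq_mul.1 ((H.four h4 ((hw ▸ h2 : C (w * w) = C j).ge
      e)).resolve_right fun h7 => ne_one_of_orderOf_two h4 ?_)).symm
    have h8 : w * y * w⁻¹ * y⁻¹ = w * w := by
      rw [show w * y * w⁻¹ * y⁻¹ = w * (y * w * y⁻¹)⁻¹ by group, h7, inv_inv]
    exact H11.eq_one_of_odd_of_sq (hy.of_dvd_nat (orderOf_dvd_of_mem_zpowers
      (h8 ▸ mul_mem h6 (inv_mem (mem_zpowers y))))) (mul_self_of_orderOf_two h4)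
  have h4 := mul_mem (key (l⁻¹ * k) (by rw [sq_mul (Commute.inv_left h3.symm).eq, o4_inv hl, ll]))
    (key (l * k) (by rw [sq_mul h3.symm, ll]))
  rw [show l⁻¹ * k * (l * k) = l⁻¹ * (k * l) * k by group, h3, inv_mul_cancel_left] at h4
  exact ne (H.eq_of_odd hk hj hy y1 (mem_cent1.2 (mem_cent1.1 h4).symm) e)

theorem exists_rich (h0 : Even (Nat.card G)) : ∃ j : G, orderOf j = 2 ∧ Rich j ∧
    ∀ i ∈ C j, orderOf i = 2 → (∀ h ∈ C j, h * i = i * h) → C i = C j := by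
  by_cases h1 : ∃ j y : G, orderOf j = 2 ∧ Odd (orderOf y) ∧ y ≠ 1 ∧ y ∈ C j
  · obtain ⟨j, y, hj, hy, y1, e⟩ := h1
    exact ⟨j, hj, H.rich_of_odd Z hj hy y1 e, fun i _ hi h2 =>
      H.eq_of_odd hi hj hy y1 (mem_cent1.2 (h2 y e)) e⟩
  have h2 : ∀ t : G, orderOf t = 2 → IsPGroup 2 (C t) := fun t ht ⟨c, hc⟩ => by
    obtain ⟨a, ha⟩ := H25.exists_pow_prime_pow_coprime 2 Nat.prime_two c
    exact ⟨a, Subtype.ext (by_contra fun e => h1 ⟨t, _, ht, odd_iff_coprime.2 ha, e, pow_mem hc _⟩)⟩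
  obtain ⟨t, ht⟩ := H11.exists_invol_of_even' h0
  obtain ⟨P, hP⟩ := H11.exists_sylow_mem (p := 2) (k := 1) ht
  obtain ⟨j, -, hj, h3⟩ := H11.exists_orderOf_eq_centralizer_of_normalized P.isPGroup' P.isPGroup'
    (fun e => ne_one_of_orderOf_two ht (mem_bot.1 (e ▸ hP))) le_normalizer
  have h4 := P.3 (h2 j hj) fun s hs => mem_cent1.2 (h3 s hs)
  exact ⟨j, hj, fun k hk h5 => (P.3 (h2 _ h5) (h4 ▸ H.le_cent (h2 j hj) h5 hk)).trans h4.symm,
    fun i _ hi h5 => (P.3 (h2 i hi) fun s hs => mem_cent1.2 (h5 s (h4.ge hs))).trans h4.symm⟩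

theorem cases (hj : orderOf j = 2) (r : Rich j)
    (r2 : ∀ i ∈ C j, orderOf i = 2 → (∀ h ∈ C j, h * i = i * h) → C i = C j) : (∃ A < C j, ∀ x ∈ C j, x ∉ A → x ^ 2 = 1) ∨
    ∀ t : G, orderOf t = 2 → IsMulCommutative (C t) := by
  by_cases h1 : ∃ i g : G, orderOf i = 2 ∧ C i = C j ∧ g * i * g⁻¹ ∈ C j ∧ C (g * i * g⁻¹) ≠ C j
  · obtain ⟨i, g, hi, e, h2, h3⟩ := h1
    exact Or.inl (H.dgrp hj r ((orderOf_conj _ _).trans hi) h2 h3 fun k hk h4 h5 => h3
      ((Rich.conj (j := i) (fun k hk h => (r k (e.le hk) h).trans e.symm) g k h5 h4).symm.trans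
        (r k hk h4)))
  have h2 : ∀ i : G, orderOf i = 2 → C i = C j → ∃ g, g * i * g⁻¹ ≠ i ∧ cj g (C j) = C j :=
    fun i hi e => by
      obtain ⟨g, h2, h3⟩ := Z i hi
      exact ⟨g, h3, by_contra fun h4 => h1 ⟨i, g, hi, e, e.le h2, by rwa [← H11.cj_cent1, e]⟩⟩
  by_cases h3 : ∃ u ∈ C j, orderOf u = 2 ∧ C u ≠ C j
  · obtain ⟨u, uj, hu, ne⟩ := h3
    refine Or.inl (H.dgrp hj r hu uj ne fun k kj hk ku => ?_)
    obtain ⟨g, h3, h4⟩ := h2 _ hk (r k kj hk)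
    have lj := H11.cj_le_iff.1 h4.le k kj
    have hl := o4_conj hk g
    rw [← conj_mul] at h3
    generalize g * k * g⁻¹ = l at hl lj h3
    have h5 := H.comm4 hk hl h3.symm ((r k kj hk).ge lj) ((r l lj hl).ge kj)
    have h6 : orderOf (k * l * (k * l)) = 2 := by
      rw [sq_mul h5]
      exact two_mul hk hl h3.symm (by rw [← sq_mul h5, ← sq_mul h5.symm, h5])
    have e1 := mul_inv_eq_iff_eq_mul.2 (mem_cent1.1 ku).symm
    have lu : l ∈ C u := mem_cent1.2 (mul_inv_eq_iff_eq_mul.1 ((H.four hl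
      ((r l lj hl).ge uj)).resolve_right fun e => by
        rcases H.four h6 ((r _ (mul_mem kj lj) h6).ge uj) with e' | e' <;> rw [← conj_mul, e1, e] at e'
        · exact ne_one_of_orderOf_two hl (inv_eq_iff_mul_eq_one.1 (mul_left_cancel e'))
        · rw [h5, mul_inv_rev, mul_left_inj, ← mul_eq_one_iff_eq_inv] at e'
          exact ne_one_of_orderOf_two hk e')).symm
    have key : ∀ k ∈ C j, orderOf (k * k) = 2 → k ∈ C u → ∀ h ∈ C j,
        h * u * h⁻¹ = u ∨ h * u * h⁻¹ = k * k * u := fun k kj hk ku h hh => by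
      have e : k * u * (k * u) = k * k := by
        rw [sq_mul (mem_cent1.1 ku), mul_self_of_orderOf_two hu, mul_one]
      have e' : (k * u)⁻¹ = k⁻¹ * u := by
        rw [mem_cent1.1 ku, mul_inv_rev, H11.inv_eq_of_orderOf_two hu]
      rcases H.four (k := k * u) (e ▸ hk) (e ▸ (r k kj hk).ge hh) with h5 | h5 <;>
        rcases H.four hk ((r k kj hk).ge hh) with h6 | h6 <;> rw [← conj_mul, h6] at h5
      · exact Or.inl (mul_left_cancel h5)
      · exact Or.inr (by rw [inv_mul_eq_iff_eq_mul.1 h5, mul_assoc])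
      · exact Or.inr (by rw [← o4_inv hk, mul_assoc k⁻¹, ← e', ← h5, inv_mul_cancel_left])
      · exact Or.inl (mul_left_cancel (h5.trans e'))
    refine ne (r2 u uj hu fun h hh => mul_inv_eq_iff_eq_mul.1 ((key k kj hk ku h hh).elim id
      fun e => (key l lj hl lu h hh).resolve_right fun e' => h3 ?_))
    exact mul_right_cancel (e'.symm.trans e)
  push Not at h3
  have nm : ∀ d ∈ C j, d ≠ 1 → ∀ g, g * d * g⁻¹ ∈ zpowers d ↔ g ∈ C j := fun d hd d1 g => by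
    by_cases e : d * d = 1
    · rw [H d d d g (mem_zpowers d) (orderOf_two_of d1 e) (mem_zpowers d) d1,
        h3 d hd (orderOf_two_of d1 e)]
    · exact H.nrm hj r hd e (mem_zpowers d) d1
  obtain ⟨x, h4, h5⟩ := h2 j hj rfl
  have one : ∀ d ∈ C j, ∀ h, d ∈ zpowers h → x * d * x⁻¹ ∈ zpowers h → d = 1 :=
    fun d hd h e e' => by_contra fun d1 => h4 (mul_inv_eq_iff_eq_mul.2 (mem_cent1.1
      ((nm d hd d1 x).1 (mem_zpowers_of_cyclic inferInstance e e' (orderOf_conj _ _).dvd))))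
  have dj : ∀ h ∈ C j, ∀ d ∈ zpowers h, d ∈ zpowers (x * h * x⁻¹) → d = 1 := fun h hh d e e' =>
    one d (zpowers_le.2 hh e) _ e' (by rw [← H11.cj_zpowers]; exact H11.conj_mem_map_conj x e)
  have cm : ∀ a ∈ C j, ∀ b ∈ C j, a * b * a⁻¹ * b⁻¹ ∈ zpowers a ⊓ zpowers b := fun a ha b hb => by
    by_cases e : a = 1 ∨ b = 1
    · rcases e with rfl | rfl <;> simp
    push Not at e
    have q := (zpowers a).mul_mem (mem_zpowers a) ((zpowers a).inv_mem ((nm a ha e.1 b).2 hb))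
    exact mem_inf.2 ⟨by simpa [mul_assoc] using q,
      (zpowers b).mul_mem ((nm b hb e.2 a).2 ha) ((zpowers b).inv_mem (mem_zpowers b))⟩
  have ab : ∀ a ∈ C j, ∀ b ∈ C j, a * b = b * a := fun a ha b hb => by
    have ha' := H11.cj_le_iff.1 h5.le a ha
    have e1 : Commute a (x * a * x⁻¹) := by
      have := dj a ha _ (cm a ha _ ha').1 (cm a ha _ ha').2
      rwa [mul_inv_eq_one, mul_inv_eq_iff_eq_mul] at this
    obtain ⟨n, hn⟩ := (cm _ (mul_mem ha ha') b hb).1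
    obtain ⟨c1, c2⟩ := cm a ha b hb
    obtain ⟨⟨m, hm⟩, c3⟩ := cm _ ha' b hb
    simp only at hn hm
    rw [e1.mul_zpow, show ∀ a' : G, a * a' * b * (a * a')⁻¹ * b⁻¹ = a * (a' * b * a'⁻¹ * b⁻¹) * a⁻¹ *
      (a * b * a⁻¹ * b⁻¹) from fun _ => by group, ← hm, (e1.zpow_right m).eq, mul_inv_cancel_right,
      (e1.zpow_zpow n n).eq] at hn
    have e2 : a ^ n * (a * b * a⁻¹ * b⁻¹)⁻¹ = ((x * a * x⁻¹) ^ n)⁻¹ * (x * a * x⁻¹) ^ m := by
      rw [eq_inv_mul_iff_mul_eq, ← mul_assoc, hn, mul_inv_cancel_right]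
    have e3 := dj a ha _ (mul_mem (zpow_mem (mem_zpowers a) n) (inv_mem c1))
      (e2 ▸ mul_mem (inv_mem (zpow_mem (mem_zpowers _) n)) (zpow_mem (mem_zpowers _) m))
    rw [e3, eq_inv_mul_iff_mul_eq, mul_one, conj_zpow, mul_inv_eq_one.1 e3, hm] at e2
    have := one _ (zpowers_le.2 ha c1) b c2 (e2 ▸ c3)
    rwa [mul_inv_eq_one, mul_inv_eq_iff_eq_mul] at this
  refine Or.inr fun t ht => ?_
  obtain ⟨P, hP⟩ := H11.exists_sylow_mem (p := 2) (k := 1) hj
  obtain ⟨z, hz, z2, h6⟩ := H11.exists_orderOf_eq_centralizer_of_normalized P.isPGroup' P.isPGroup'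
    (fun e => ne_one_of_orderOf_two hj (mem_bot.1 (e ▸ hP))) le_normalizer
  obtain ⟨g, hg⟩ := H11.exists_conj_invol_mem_sylow P ht
  have h7 := h3 _ ((h3 z (mem_cent1.2 (h6 j hP).symm) z2).le (mem_cent1.2 (h6 _ hg)))
    ((orderOf_conj _ _).trans ht)
  rw [← H11.cj_cent1] at h7
  refine ⟨⟨fun a b => Subtype.ext ?_⟩⟩
  simpa [conj_mul] using ab _ (H11.cj_le_iff.1 h7.le a a.2) _ (H11.cj_le_iff.1 h7.le b b.2)

end II

end Cfsg.Agent.GW
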